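import Cfsg.Agent.Lib.Blocks.Inflation
import Cfsg.Agent.Lib.Blocks.Orthogonality

/-! Degrees of the characters of a block against its values at `p`-singular elements. -/

set_option autoImplicit false

namespace Cfsg.Agent.CharTheory.Blocks

open scoped ComplexConjugate
open Cfsg.Agent.Characters Cfsg.Agent.Blocks

universe u

variable {G : Type u} [Group G] [Finite G] {p : ℕ} {M : Ideal Cfsg.AlgInt}

theorem not_singular_one (hM : Cfsg.IsPModular p M) : ¬ p ∣ orderOf (1 : G) := by
  simpa using hM.1.ne_one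

/-- `∑ χ(1) χ` over a block vanishes at the `p`-singular elements. -/
theorem sum_degree_mul_eq_zero (hM : Cfsg.IsPModular p M) [Fintype (Cfsg.IrrCharacter G)]
    {B : Set (Cfsg.IrrCharacter G)} [DecidablePred (· ∈ B)] (hB : Cfsg.IsPBlock M B) {y : G}
    (hy : p ∣ orderOf y) :
    ∑ χ : Cfsg.IrrCharacter G,
      (if χ ∈ B then (χ : G → ℂ) 1 * (χ : G → ℂ) y else 0) = 0 := by
  classical
  have h := sum_block_reg_sing hM (intEl_blockIdem hM hB) (not_singular_one hM)
    (y := y⁻¹) (by rwa [orderOf_inv])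
  rw [finsum_mem_def, finsum_eq_sum_of_fintype] at h
  rw [← h]
  refine Finset.sum_congr rfl fun χ _ => ?_
  rw [Set.indicator_apply, char_inv (irr_isCharacter χ), Complex.conj_conj]
  congr

/-- With `p ∣ |G|` the principal block has another character of degree prime to `p`. -/
theorem exists_ne_triv_not_dvd (hM : Cfsg.IsPModular p M) (hp : p ∣ Nat.card G) :
    ∃ χ : Cfsg.IrrCharacter G, χ ∈ Cfsg.principalBlock M G ∧
      ¬ p ∣ Cfsg.charDegree (χ : G → ℂ) ∧ χ ≠ trivIrr G := by
  classical
  haveI := fact_prime_of_pm hM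
  haveI := Fintype.ofFinite (Cfsg.IrrCharacter G)
  by_contra hcon
  push Not at hcon
  obtain ⟨x, hx⟩ := exists_prime_orderOf_dvd_card' p hp
  have h := sum_degree_mul_eq_zero hM (isPBlock_principal M G) (y := x) (by rw [hx])
  rw [← Finset.sum_erase_add _ _ (Finset.mem_univ (trivIrr G)),
    if_pos (trivIrr_mem_principal hM)] at h
  have hI : Cfsg.MemLocalIdeal M ((trivIrr G : G → ℂ) 1 * (trivIrr G : G → ℂ) x) := by
    rw [eq_neg_of_add_eq_zero_right h]
    refine ideal_neg hM (ideal_sum hM fun χ hχ => ?_)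
    split_ifs with hB
    · refine ideal_mul_right hM ?_ (ring_of_isIntegral hM (char_value_isIntegral (irr_isCharacter χ) x))
      rw [← charDegree_cast, ideal_natCast_iff hM]
      by_contra hd
      exact Finset.ne_of_mem_erase hχ (hcon χ hB hd)
    · exact ideal_zero hM
  exact not_ideal_one hM (by simpa using hI)

/-- The principal block of a `p'`-group. -/
theorem eq_triv_of_mem_principal (hM : Cfsg.IsPModular p M) (hp : ¬ p ∣ Nat.card G)
    {χ : Cfsg.IrrCharacter G} (hχ : χ ∈ Cfsg.principalBlock M G) :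
    (χ : G → ℂ) = fun _ => 1 := by
  have h1 := (sameBlock_one_iff hM (N := (⊤ : Subgroup G)) (by rwa [Subgroup.card_top])
    ⟨0, by simp⟩ χ).1 hχ
  funext g
  have hone : (χ : G → ℂ) 1 = 1 := by
    classical
    haveI := Fintype.ofFinite G
    have hn := classInner_irr χ χ
    rw [if_pos rfl, classInner_def, Finset.sum_congr rfl fun g _ => by
      rw [h1 g (Subgroup.mem_top g)], Finset.sum_const, Finset.card_univ, nsmul_eq_mul,
      ← Nat.card_eq_fintype_card, ← mul_assoc, inv_mul_cancel₀ natCard_ne_zero, one_mul,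
      ← charDegree_cast, Complex.conj_natCast, ← Nat.cast_mul, Nat.cast_eq_one] at hn
    rw [← charDegree_cast, Nat.eq_one_of_mul_eq_one_right hn, Nat.cast_one]
  rw [h1 g (Subgroup.mem_top g), hone]

end Cfsg.Agent.CharTheory.Blocks
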