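import Cfsg.Agent.Lib.Blocks.PQuotient
import Cfsg.Agent.Lib.Blocks.Brauer
import Cfsg.Agent.Lib.Blocks.QuotientDefect

/-! Inflation from the quotient by a normal `p`-subgroup is injective on blocks when the
`p`-regular elements centralising a normal `p`-subgroup of the quotient lift centrally. -/

set_option autoImplicit false
set_option linter.style.haveILetI false

namespace Cfsg.Agent.CharTheory.Blocks

open Cfsg.Agent.Characters Cfsg.Agent.Blocks

universe u

variable {G : Type u} [Group G] [Finite G] {p : ℕ} {M : Ideal Cfsg.AlgInt}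
variable {P : Subgroup G} [P.Normal]

theorem sameBlock_inflate_iff_of_lift (hM : Cfsg.IsPModular p M) (hP : IsPGroup p P)
    {D : Subgroup (G ⧸ P)} [D.Normal] (hD : IsPGroup p D)
    (hlift : ∀ g : G, ¬ p ∣ orderOf g → (g : G ⧸ P) ∈ Subgroup.centralizer (D : Set (G ⧸ P)) →
      g ∈ Subgroup.centralizer (P : Set G))
    (χ ψ : Cfsg.IrrCharacter (G ⧸ P)) :
    Cfsg.SameBlock M (χ : G ⧸ P → ℂ) (ψ : G ⧸ P → ℂ) ↔
      Cfsg.SameBlock M ((χ : G ⧸ P → ℂ) ∘ QuotientGroup.mk)
        ((ψ : G ⧸ P → ℂ) ∘ QuotientGroup.mk) := by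
  classical
  refine ⟨fun h => sameBlock_inflate hM (QuotientGroup.mk' P) (QuotientGroup.mk'_surjective P) h,
    fun h => ?_⟩
  haveI := Fintype.ofFinite G
  haveI := fact_prime_of_pm hM
  set f := QuotientGroup.mk' P
  set B := Cfsg.blockOf M (χ : G ⧸ P → ℂ)
  have hB : Cfsg.IsPBlock M B := isPBlock_blockOf M χ
  set c := cutEl D (blockIdem B) with hc
  have hcc : IsCentralEl c := central_cutEl_normal (central_blockIdem B)
  have hci : IntEl M c := intEl_cutEl hM D (intEl_blockIdem hM hB)
  have hc0 : ∀ k, p ∣ orderOf k → c.coeff k = 0 := fun k hk => by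
    by_cases hkD : k ∈ Subgroup.centralizer (D : Set (G ⧸ P))
    · rw [hc, cutEl_coeff_mem _ hkD, coeff_blockIdem,
        blockCoeff_eq_zero_of_singular hM (intEl_blockIdem hM hB) hk]
    · rw [hc, cutEl_coeff_notMem _ hkD]
  set z : MonoidAlgebra ℂ G :=
    ofFun fun g => if p ∣ orderOf g then 0 else c.coeff (f g) with hz
  have hzc : IsCentralEl z := central_ofFun fun g x => by
    show (if p ∣ orderOf (x * g * x⁻¹) then (0 : ℂ) else c.coeff (f (x * g * x⁻¹))) = _
    rw [show orderOf (x * g * x⁻¹) = orderOf g from MulEquiv.orderOf_eq (MulAut.conj x) g,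
      f.map_mul, f.map_mul, f.map_inv, hcc (f g) (f x)]
  have hzi : IntEl M z := fun g => by
    rw [hz, coeff_ofFun]; split
    · exact ring_zero hM
    · exact hci _
  have hmap : mapEl f z = c := el_ext fun k => by
    rw [coeff_mapEl]
    by_cases hk : p ∣ orderOf k
    · rw [hc0 k hk]
      refine Finset.sum_eq_zero fun g _ => ?_
      split_ifs with hg
      · rw [hz, coeff_ofFun]
        split_ifs
        · rfl
        · rw [hg, hc0 k hk]
      · rfl
    · obtain ⟨g, hg, hgk⟩ := exists_regular_lift hM.1 hk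
      subst hgk
      rw [Finset.sum_eq_single g (fun b _ hne => ?_) (by simp)]
      · rw [if_pos (by rfl), hz, coeff_ofFun, if_neg hg]; rfl
      · split_ifs with hb
        · rw [hz, coeff_ofFun]
          split_ifs with hbs
          · rfl
          · by_contra h0
            have hbD : (b : G ⧸ P) ∈ Subgroup.centralizer (D : Set (G ⧸ P)) := by
              by_contra hn
              exact h0 (by rw [hc, show f b = (b : G ⧸ P) from rfl, cutEl_coeff_notMem _ hn])
            have hbC := hlift b hbs hbD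
            have hu : b⁻¹ * g ∈ P := QuotientGroup.eq.1 hb
            have hcomm : Commute (b⁻¹ * g) b := Subgroup.mem_centralizer_iff.1 hbC _ hu
            obtain ⟨j, hj⟩ := IsPGroup.iff_orderOf.1 hP ⟨_, hu⟩
            have h1 : Cfsg.IsPPart p g (b⁻¹ * g) :=
              ⟨b, by rw [hcomm.eq, mul_inv_cancel_left], hcomm,
                ⟨j, by rw [← hj, Subgroup.orderOf_mk]⟩, hbs⟩
            exact hne (inv_mul_eq_one.1 (ppart_unique hM.1 h1 (isPPart_one hM.1 hg)))
        · rfl
  have h1 := (sameBlock_iff_omega hM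
    ⟨_, isIrrCharacter_comp_surjective _ (QuotientGroup.mk'_surjective P) χ.2⟩
    ⟨_, isIrrCharacter_comp_surjective _ (QuotientGroup.mk'_surjective P) ψ.2⟩).1 h z hzc hzi
  rw [omega_mapEl, omega_mapEl, hmap] at h1
  have h2 : ∀ θ : Cfsg.IrrCharacter (G ⧸ P),
      Cong M (omega (θ : G ⧸ P → ℂ) c) (omega (θ : G ⧸ P → ℂ) (blockIdem B)) := fun θ =>
    omega_cong hM θ hcc (central_blockIdem B) (congEl_symm hM (blockIdem_congEl_cutEl hM hD hB))
  have h3 := cong_trans hM (cong_trans hM (cong_symm hM (h2 χ)) h1) (h2 ψ)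
  rw [omega_blockIdem_mem (mem_blockOf_self hM χ)] at h3
  by_contra hne
  rw [omega_blockIdem_notMem (show ψ ∉ B from hne)] at h3
  exact not_cong_zero_one hM (cong_symm hM h3)

end Cfsg.Agent.CharTheory.Blocks
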