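import Cfsg.Agent.Lib.Transfer.Tate
import Cfsg.Agent.Lib.Coprime.PGroup

/-! A normal `p`-complement from a self-normalizing Sylow subgroup whose derived group is cut out
by a normal subgroup. -/

set_option autoImplicit false
set_option linter.style.haveILetI false

namespace Cfsg.Agent.CharTheory.Blocks

open Subgroup Cfsg.Agent.Transfer.NormalPComplement
open scoped commutatorElement Pointwise

variable {p : ℕ} [Fact p.Prime] {L : Type*} [Group L] [Finite L]

/-- If the Sylow subgroup `Q` is self-normalizing and a normal subgroup meets it in `Q'`, there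
is a normal `p`-complement. -/
theorem hasNormalPComplement_of_selfNormalizing (Q : Sylow p L)
    (hN : normalizer ((Q : Subgroup L) : Set L) = (Q : Subgroup L)) (T : Subgroup L) [T.Normal]
    (hT : T ⊓ (Q : Subgroup L) = ⁅(Q : Subgroup L), (Q : Subgroup L)⁆) :
    Cfsg.HasNormalPComplement p L := by
  set π := QuotientGroup.mk' T with hπ
  have hπs : Function.Surjective π := QuotientGroup.mk'_surjective T
  set Qb : Sylow p (L ⧸ T) := Q.mapSurjective hπs with hQb
  have hQbc : (Qb : Subgroup (L ⧸ T)) = (Q : Subgroup L).map π := Sylow.coe_mapSurjective _ _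
  have hab : ∀ a ∈ (Q : Subgroup L), ∀ b ∈ (Q : Subgroup L), π a * π b = π b * π a := by
    intro a ha b hb
    have hc : ⁅a, b⁆ ∈ T := (hT.ge (commutator_mem_commutator ha hb)).1
    rw [← commutatorElement_eq_one_iff_mul_comm, ← map_commutatorElement]
    exact (QuotientGroup.eq_one_iff _).2 hc
  have hburn : normalizer ((Qb : Subgroup (L ⧸ T)) : Set (L ⧸ T)) ≤
      centralizer ((Qb : Subgroup (L ⧸ T)) : Set (L ⧸ T)) := by
    intro z hz
    obtain ⟨y, rfl⟩ := hπs z
    set K := T ⊔ (Q : Subgroup L) with hK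
    have hyK : ((y • Q : Sylow p L) : Subgroup L) ≤ K := by
      intro x hx
      replace hx := Cfsg.Agent.Transfer.Fusion.mem_smul_sylow_iff.1 hx
      have h1 : π x ∈ (Qb : Subgroup (L ⧸ T)) := by
        have h2 : π (y⁻¹ * x * y) ∈ (Qb : Subgroup (L ⧸ T)) := hQbc.ge (mem_map_of_mem π hx)
        have h3 := (mem_normalizer_iff.1 hz _).1 h2
        rwa [← map_inv, ← map_mul, ← map_mul, show y * (y⁻¹ * x * y) * y⁻¹ = x by group] at h3
      rw [hK, sup_comm]
      have h4 : x ∈ ((Q : Subgroup L).map π).comap π := by rw [mem_comap, ← hQbc]; exact h1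
      rwa [comap_map_eq, hπ, QuotientGroup.ker_mk'] at h4
    obtain ⟨k, hk, hkQ⟩ := Cfsg.Agent.Transfer.Fusion.exists_conj_eq_of_le hyK (le_sup_right (a := T))
    have hky : k * y ∈ (Q : Subgroup L) := by
      rw [← hN, ← Cfsg.Agent.Transfer.Fusion.map_conj_eq_self_iff]
      rw [Cfsg.Agent.Transfer.Fusion.map_conj_mul,
        ← Cfsg.Agent.Transfer.Fusion.coe_smul_eq_map, hkQ]
    have hy : y ∈ K := by
      simpa using mul_mem (inv_mem hk) (le_sup_right (a := T) hky)
    obtain ⟨t, ht, q, hq, rfl⟩ := mem_sup_of_normal_left.1 hy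
    rw [mem_centralizer_iff]
    intro w hw
    rw [SetLike.mem_coe, hQbc] at hw
    obtain ⟨a, ha, rfl⟩ := hw
    rw [map_mul, show π t = 1 from (QuotientGroup.eq_one_iff t).2 ht, one_mul]
    exact hab a ha q hq
  obtain ⟨Kb, hKn, hKc, k, hk⟩ := hasNormalPComplement_iff_exists.1
    (hasNormalPComplement_of_normalizer_le_centralizer Qb hburn)
  set L₁ := Kb.comap π
  have hL₁ : L₁ ⊓ (Q : Subgroup L) ≤
      (frattini (Q : Subgroup L)).map (Q : Subgroup L).subtype := by
    intro x hx
    have h1 : π x = 1 := by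
      have hd : orderOf (π x) = 1 := by
        obtain ⟨j, hj⟩ := Q.2.exists_card_eq
        refine Nat.eq_one_of_dvd_coprimes (hKc.pow_right j) (Kb.orderOf_dvd_natCard hx.1) ?_
        rw [← hj]
        exact (orderOf_map_dvd π x).trans (Subgroup.orderOf_dvd_natCard _ hx.2)
      exact orderOf_eq_one_iff.1 hd
    have h2 : x ∈ ⁅(Q : Subgroup L), (Q : Subgroup L)⁆ :=
      hT.le ⟨(QuotientGroup.eq_one_iff x).1 h1, hx.2⟩
    haveI := Q.2.isNilpotent
    refine map_mono (Cfsg.Agent.Coprime.commutator_le_frattini _) ?_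
    rwa [_root_.commutator_def, map_commutator, ← MonoidHom.range_eq_map, range_subtype]
  refine hasNormalPComplement_of_normal_index
    (Cfsg.Agent.Transfer.Tate.hasNormalPComplement_of_inf_le_frattini Q L₁ hL₁) (k := k) ?_
  rw [← hk]
  exact index_comap_of_surjective _ hπs

end Cfsg.Agent.CharTheory.Blocks
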